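import Cfsg.Agent.Lib.He.InvolCent.Data

/-!
Kernel checks for the centraliser of an involution in the Held group.
-/

set_option autoImplicit false
set_option maxRecDepth 100000

namespace CfsgLib.He.InvolCent

open CfsgLib.PresCert Matrix

/-- The adapted base. -/
def cbase : List ℕ := [0] ++ centLevels.map Level.base

/-- The code of a matrix. -/
def codeOf (A : Matrix (Fin 5) (Fin 5) (ZMod 2)) : ℕ :=
  ((List.finRange 5).map fun i => ((List.finRange 5).map fun j =>
    if A i j = 1 then 2 ^ (5 * i.val + j.val) else 0).sum).sum

/-- Agreement with the identity on the first two rows and columns. -/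
def leviShape (A : Matrix (Fin 5) (Fin 5) (ZMod 2)) : Bool :=
  (List.finRange 5).all fun i => (List.finRange 5).all fun j =>
    !(decide (i.val < 2) || decide (j.val < 2)) || decide (A i j = if i = j then 1 else 0)

/-- Agreement with the identity on the last three rows and columns. -/
def normShape (A : Matrix (Fin 5) (Fin 5) (ZMod 2)) : Bool :=
  (List.finRange 5).all fun i => (List.finRange 5).all fun j =>
    !(decide (2 ≤ i.val) && decide (2 ≤ j.val)) || decide (A i j = if i = j then 1 else 0)

theorem levels_tight : levelsOk tab [0] centLevels = true ∧
    (centLevels.map fun l => l.pts.length).prod = 1958400 := by decide +kernel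

theorem base_lt : ∀ k < cbase.length, cbase.getD k 0 < tab.n := by decide +kernel

theorem walk_zero : tab.walk 0 [3] = 0 := by decide +kernel

theorem count_fixed :
    ((List.range tab.n).filter fun i => Nat.beq (tab.walk i [3]) i).length = 42 := by
  decide +kernel

theorem count_search : centCount tab [3] centLevels [] [] [] = 512 := by decide +kernel

theorem normal_ok : normalPart.ok cbase = true ∧ normalPart.els.length = 128 ∧
    normalPart.codes.length = 7 := by decide +kernel

theorem levi_ok : leviPart.ok cbase = true ∧ leviPart.els.length = 168 ∧
    leviPart.codes.length = 2 := by decide +kernel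

theorem codes_ok : (normalPart.els.all fun c => decide (codeOf (matOf c) = c)) = true ∧
    (leviPart.els.all fun c => decide (codeOf (matOf c) = c)) = true ∧
    normalPart.els.Nodup ∧ leviPart.els.Nodup := by decide +kernel

theorem shapes_ok : (normalPart.els.all fun c => normShape (matOf c)) = true ∧
    (leviPart.els.all fun c => leviShape (matOf c)) = true := by decide +kernel

theorem tups_ok : ((List.range 128).all fun i => (List.range 168).all fun j =>
    !(decide (normalPart.tups.getD i [] = leviPart.tups.getD j [])) || (i == 0 && j == 0)) = true := by
  decide +kernel

/-- The conjugation check. -/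
def conjOk : Bool :=
  (List.range 2).all fun l => (List.range 7).all fun n =>
    let i := (conjIx.getD l []).getD n 0
    decide (i < normalPart.els.length ∧
      matOf (leviPart.codes.getD l 0) * matOf (normalPart.codes.getD n 0) =
        matOf (normalPart.els.getD i 0) * matOf (leviPart.codes.getD l 0) ∧
      cbase.map (fun b => tab.walk b ((leviPart.words.getD l []).reverse ++
        normalPart.words.getD n [] ++ leviPart.words.getD l [])) = normalPart.tups.getD i [])

theorem conj_ok : conjOk = true := by decide +kernel

/-- The transvection commutes with all the generators. -/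
theorem transvection_ok : matOf (normalPart.codes.getD 0 0) = transvection (0 : Fin 5) 1 1 ∧
    normalPart.words.getD 0 [] = [3] ∧
    ((normalPart.codes ++ leviPart.codes).all fun c =>
      decide (matOf c * transvection (0 : Fin 5) 1 1 = transvection (0 : Fin 5) 1 1 * matOf c)) =
      true ∧
    (transvection (0 : Fin 5) 1 1 : Matrix (Fin 5) (Fin 5) (ZMod 2)) ≠ 1 := by
  decide +kernel

end CfsgLib.He.InvolCent
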