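import Cfsg.Agent.Lib.He.Perm
import Cfsg.Agent.Lib.Golay.Bsgs
import Cfsg.Agent.Lib.Golay.SL52
import Cfsg.Agent.Lib.PresCert.CentBound

/-!
Paired generators in SL(5, 2) and the Held group, with a listing of the elements of the subgroup
they generate by matrix and by images of an adapted base.
-/

set_option autoImplicit false
set_option maxRecDepth 100000

namespace CfsgLib.He.InvolCent

open CfsgLib.PresCert Matrix

/-- The matrix of a code: row `i` in the bits `5 i` to `5 i + 4`. -/
def matOf (c : ℕ) : Matrix (Fin 5) (Fin 5) (ZMod 2) :=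
  Matrix.of fun i j => if c.testBit (5 * i.val + j.val) then 1 else 0

/-- The ambient group of the pairs. -/
abbrev Amb : Type := Matrix.SpecialLinearGroup (Fin 5) (ZMod 2) × Cfsg.Spor.He

/-- A listed subgroup of pairs. -/
structure Part where
  /-- The matrix codes of the generators. -/
  codes : List ℕ
  /-- The words of the generators. -/
  words : List (List ℕ)
  /-- The matrix codes of the elements. -/
  els : List ℕ
  /-- The images of the base under the elements. -/
  tups : List (List ℕ)
  /-- A generator and an earlier element giving each later element. -/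
  par : List (ℕ × ℕ)
  /-- The left multiplication tables. -/
  nxt : List (List ℕ)

/-- The special linear element of a code. -/
def slOf (c : ℕ) : Matrix.SpecialLinearGroup (Fin 5) (ZMod 2) :=
  if h : (matOf c).det = 1 then ⟨matOf c, h⟩ else 1

theorem slOf_val {c : ℕ} (h : (matOf c).det = 1) : (slOf c).1 = matOf c := by
  have e : slOf c = ⟨matOf c, h⟩ := dif_pos h
  rw [e]

attribute [local irreducible] matOf slOf phi

/-- The paired generator. -/
def Part.gen (P : Part) (k : ℕ) : Amb := (slOf (P.codes.getD k 0), act heGen (P.words.getD k []))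

/-- The subgroup of the pairs. -/
def Part.pairs (P : Part) : Subgroup Amb :=
  Subgroup.closure (P.gen '' {k | k < P.codes.length})

/-- The check of a listing on the base `B`. -/
def Part.ok (P : Part) (B : List ℕ) : Bool :=
  decide (0 < P.els.length ∧ P.par.length + 1 = P.els.length ∧ P.tups.getD 0 [] = B ∧
    matOf (P.els.getD 0 0) = 1) &&
  (List.range P.codes.length).all (fun k =>
    decide ((matOf (P.codes.getD k 0)).det = 1) &&
    (P.words.getD k []).all (fun g => Nat.blt g 7) &&
    (List.range P.els.length).all fun i =>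
      let j := (P.nxt.getD k []).getD i 0
      decide (j < P.els.length ∧ (P.tups.getD i []).length = B.length ∧
        matOf (P.codes.getD k 0) * matOf (P.els.getD i 0) = matOf (P.els.getD j 0) ∧
        (P.tups.getD i []).map (fun b => tab.walk b (P.words.getD k [])) = P.tups.getD j [])) &&
  (List.range P.par.length).all (fun m =>
    let e := P.par.getD m (0, 0)
    decide (e.1 < P.codes.length ∧ e.2 ≤ m ∧ (P.nxt.getD e.1 []).getD e.2 0 = m + 1))

variable {P : Part} {B : List ℕ}

/-- A pair is listed at an index. -/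
def Part.At (P : Part) (B : List ℕ) (p : Amb) (i : ℕ) : Prop :=
  i < P.els.length ∧ p.1.1 = matOf (P.els.getD i 0) ∧
    ∀ j < B.length, ∀ x : Fin tab.n, x.val = B.getD j 0 →
      ((phi p.2 x : Fin tab.n) : ℕ) = (P.tups.getD i []).getD j 0

theorem Part.ok_spec (h : P.ok B = true) :
    (0 < P.els.length ∧ P.par.length + 1 = P.els.length ∧ P.tups.getD 0 [] = B ∧
      matOf (P.els.getD 0 0) = 1) ∧
    (∀ k < P.codes.length, (matOf (P.codes.getD k 0)).det = 1 ∧
      (∀ g ∈ P.words.getD k [], g < tab.ng) ∧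
      ∀ i < P.els.length, (P.nxt.getD k []).getD i 0 < P.els.length ∧
        (P.tups.getD i []).length = B.length ∧
        matOf (P.codes.getD k 0) * matOf (P.els.getD i 0) =
          matOf (P.els.getD ((P.nxt.getD k []).getD i 0) 0) ∧
        (P.tups.getD i []).map (fun b => tab.walk b (P.words.getD k [])) =
          P.tups.getD ((P.nxt.getD k []).getD i 0) []) ∧
    ∀ m < P.par.length, (P.par.getD m (0, 0)).1 < P.codes.length ∧
      (P.par.getD m (0, 0)).2 ≤ m ∧
      (P.nxt.getD (P.par.getD m (0, 0)).1 []).getD (P.par.getD m (0, 0)).2 0 = m + 1 := by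
  simp only [Part.ok, Bool.and_eq_true, decide_eq_true_eq, List.all_eq_true, List.mem_range,
    Nat.blt_eq] at h
  obtain ⟨⟨h1, h2⟩, h3⟩ := h
  exact ⟨h1, fun k hk => ⟨(h2 k hk).1.1, (h2 k hk).1.2, (h2 k hk).2⟩, h3⟩

theorem Part.at_one (h : P.ok B = true) : P.At B 1 0 := by
  obtain ⟨⟨h0, -, ht, hm⟩, -⟩ := Part.ok_spec h
  refine ⟨h0, ?_, fun j hj x hx => ?_⟩
  · rw [Prod.fst_one, Matrix.SpecialLinearGroup.coe_one, hm]
  · rw [Prod.snd_one, map_one, Equiv.Perm.one_apply, hx, ht]

theorem Part.at_mul (h : P.ok B = true) {k : ℕ} (hk : k < P.codes.length) {p : Amb} {i : ℕ}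
    (hp : P.At B p i) : P.At B (P.gen k * p) ((P.nxt.getD k []).getD i 0) := by
  obtain ⟨-, hgen, -⟩ := Part.ok_spec h
  obtain ⟨hdet, hw, hall⟩ := hgen k hk
  obtain ⟨hi, hm, ht⟩ := hp
  obtain ⟨hj, hlen, e1, e2⟩ := hall i hi
  refine ⟨hj, ?_, fun j hjB x hx => ?_⟩
  · rw [Prod.fst_mul, Part.gen, Matrix.SpecialLinearGroup.coe_mul, slOf_val hdet, hm, e1]
  · rw [Prod.snd_mul, Part.gen, map_mul, Equiv.Perm.mul_apply, realised.act_apply hw, ht j hjB x hx, ← e2]
    have hjl : j < (P.tups.getD i []).length := hlen ▸ hjB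
    rw [List.getD_eq_getElem (List.map _ _) 0 (by simpa using hjl), List.getElem_map,
      List.getD_eq_getElem _ 0 hjl]

theorem Part.gen_mem {k : ℕ} (hk : k < P.codes.length) : P.gen k ∈ P.pairs :=
  Subgroup.subset_closure ⟨k, hk, rfl⟩

/-- Every pair of the subgroup is listed. -/
theorem Part.at_mem (h : P.ok B = true) {p : Amb} (hp : p ∈ P.pairs) :
    ∃ i, P.At B p i := by
  haveI := card_he.1
  refine CfsgLib.Golay.Bsgs.closure_le_of_left_mul (X := {p | ∃ i, P.At B p i})
    ⟨0, Part.at_one h⟩ ?_ hp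
  rintro _ ⟨k, hk, rfl⟩ x ⟨i, hi⟩
  exact ⟨_, Part.at_mul h hk hi⟩

/-- Every listed index is reached. -/
theorem Part.reached (h : P.ok B = true) :
    ∀ i < P.els.length, ∃ p ∈ P.pairs, P.At B p i := by
  obtain ⟨⟨-, hlen, -⟩, -, hpar⟩ := Part.ok_spec h
  intro i
  induction i using Nat.strong_induction_on with
  | h i ih =>
    intro hi
    rcases i with _ | m
    · exact ⟨1, Subgroup.one_mem _, Part.at_one h⟩
    · obtain ⟨h1, h2, h3⟩ := hpar m (by omega)
      obtain ⟨p, hp, hat⟩ := ih _ (Nat.lt_succ_of_le h2) (by omega)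
      exact ⟨_, Subgroup.mul_mem _ (Part.gen_mem h1) hp, h3 ▸ Part.at_mul h h1 hat⟩

/-- Distinct codes of the listed matrices give that many pairs. -/
theorem Part.card_le_pairs (h : P.ok B = true)
    (hinj : ∀ i < P.els.length, ∀ j < P.els.length,
      matOf (P.els.getD i 0) = matOf (P.els.getD j 0) → i = j) :
    P.els.length ≤ Nat.card P.pairs := by
  haveI := card_he.1
  choose f hf hat using Part.reached h
  rw [← Nat.card_fin P.els.length]
  refine Nat.card_le_card_of_injective (fun i => (⟨f i.val i.isLt, hf i.val i.isLt⟩ : P.pairs))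
    fun a b e => Fin.ext (hinj _ a.isLt _ b.isLt ?_)
  have e' : f a.val a.isLt = f b.val b.isLt := congrArg Subtype.val e
  rw [← (hat a.val a.isLt).2.1, ← (hat b.val b.isLt).2.1, e']

end CfsgLib.He.InvolCent
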