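import Cfsg.Agent.Lib.He.InvolCent.Checks

/-!
An involution of the Held group whose centraliser is that of a transvection in SL(5, 2).
-/

set_option autoImplicit false
set_option maxRecDepth 100000

namespace CfsgLib.He.InvolCent

open CfsgLib.PresCert Matrix
open scoped Pointwise

attribute [local irreducible] matOf slOf phi normalPart leviPart centLevels cbase conjIx codeOf
  leviShape normShape Part.ok

theorem fix_cbase : fixSub phi cbase = ⊥ := by
  haveI := card_he.1
  have h : Nat.card (fixSub phi [0]) ≤ (centLevels.map fun l => l.pts.length).prod :=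
    stab_le.2.trans (le_of_eq (levels_card.trans levels_tight.2.symm))
  unfold cbase
  exact (base_tight realised levels_tight.1 h).2

theorem at_snd_unique {P Q : Part} {p q : Amb} {i j : ℕ} (hp : P.At cbase p i)
    (hq : Q.At cbase q j) (e : P.tups.getD i [] = Q.tups.getD j []) : p.2 = q.2 := by
  have h : p.2⁻¹ * q.2 ∈ fixSub phi cbase := fun x hx => by
    obtain ⟨k, hk, hkx⟩ := List.getElem_of_mem hx
    have hd : x.val = cbase.getD k 0 := by rw [List.getD_eq_getElem _ _ hk, hkx]
    rw [map_mul, Equiv.Perm.mul_apply, map_inv, Equiv.Perm.inv_def, Equiv.symm_apply_eq]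
    exact Fin.ext (by rw [hp.2.2 k hk x hd, hq.2.2 k hk x hd, e])
  rw [fix_cbase, Subgroup.mem_bot, inv_mul_eq_one] at h
  exact h

theorem at_unique {P : Part} {p q : Amb} {i : ℕ} (hp : P.At cbase p i) (hq : P.At cbase q i) :
    p = q :=
  Prod.ext (Subtype.ext (hp.2.1.trans hq.2.1.symm)) (at_snd_unique hp hq rfl)

theorem index_inj {els : List ℕ} (hc : els.all (fun c => decide (codeOf (matOf c) = c)) = true)
    (hn : els.Nodup) : ∀ i < els.length, ∀ j < els.length,
      matOf (els.getD i 0) = matOf (els.getD j 0) → i = j := by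
  intro i hi j hj e
  rw [List.getD_eq_getElem _ _ hi, List.getD_eq_getElem _ _ hj] at e
  simp only [List.all_eq_true, decide_eq_true_eq] at hc
  have e' := congrArg codeOf e
  rw [hc _ (List.getElem_mem hi), hc _ (List.getElem_mem hj)] at e'
  exact (hn.getElem_inj_iff).1 e'

theorem normal_inj : ∀ i < normalPart.els.length, ∀ j < normalPart.els.length,
    matOf (normalPart.els.getD i 0) = matOf (normalPart.els.getD j 0) → i = j :=
  index_inj codes_ok.1 codes_ok.2.2.1

theorem levi_inj : ∀ i < leviPart.els.length, ∀ j < leviPart.els.length,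
    matOf (leviPart.els.getD i 0) = matOf (leviPart.els.getD j 0) → i = j :=
  index_inj codes_ok.2.1 codes_ok.2.2.2

theorem eq_one_of_fst {P : Part} (h : P.ok cbase = true)
    (hinj : ∀ i < P.els.length, ∀ j < P.els.length,
      matOf (P.els.getD i 0) = matOf (P.els.getD j 0) → i = j)
    {p : Amb} (hp : p ∈ P.pairs) (e : p.1 = 1) : p = 1 := by
  obtain ⟨i, hi⟩ := Part.at_mem h hp
  obtain rfl : i = 0 := hinj i hi.1 0 (Part.ok_spec h).1.1 (by
    rw [← hi.2.1, e, Matrix.SpecialLinearGroup.coe_one, (Part.ok_spec h).1.2.2.2])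
  exact at_unique hi (Part.at_one h)

/-- The two factors meet trivially in either projection. -/
theorem meet_trivial {n l : Amb} (hn : n ∈ normalPart.pairs) (hl : l ∈ leviPart.pairs)
    (h : n.1 = l.1 ∨ n.2 = l.2) : n = 1 ∧ l = 1 := by
  obtain ⟨i, hi⟩ := Part.at_mem normal_ok.1 hn
  obtain ⟨j, hj⟩ := Part.at_mem levi_ok.1 hl
  rcases h with h | h
  · have hm : n.1 = 1 := by
      refine Subtype.ext ?_
      have s1 := List.all_eq_true.1 shapes_ok.1 (normalPart.els.getD i 0)
        (by rw [List.getD_eq_getElem _ _ hi.1]; exact List.getElem_mem hi.1)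
      have s2 := List.all_eq_true.1 shapes_ok.2 (leviPart.els.getD j 0)
        (by rw [List.getD_eq_getElem _ _ hj.1]; exact List.getElem_mem hj.1)
      rw [← hi.2.1] at s1
      rw [← hj.2.1, ← h] at s2
      simp only [normShape, leviShape, List.all_eq_true, List.mem_finRange, true_imp_iff,
        Bool.or_eq_true, Bool.not_eq_true', Bool.and_eq_false_iff, Bool.or_eq_false_iff,
        decide_eq_true_eq, decide_eq_false_iff_not] at s1 s2
      ext a b
      rw [Matrix.SpecialLinearGroup.coe_one, Matrix.one_apply]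
      rcases s2 a b with t | t
      · rcases s1 a b with u | u
        · omega
        · exact u
      · exact t
    exact ⟨eq_one_of_fst normal_ok.1 normal_inj hn hm,
      eq_one_of_fst levi_ok.1 levi_inj hl (h.symm.trans hm)⟩
  · have hlen : cbase.length = (normalPart.tups.getD i []).length ∧
        cbase.length = (leviPart.tups.getD j []).length :=
      ⟨(((Part.ok_spec normal_ok.1).2.1 0 (by rw [normal_ok.2.2]; omega)).2.2 i hi.1).2.1.symm,
        (((Part.ok_spec levi_ok.1).2.1 0 (by rw [levi_ok.2.2]; omega)).2.2 j hj.1).2.1.symm⟩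
    have hlt : ∀ k < cbase.length, cbase.getD k 0 < tab.n := base_lt
    have e : normalPart.tups.getD i [] = leviPart.tups.getD j [] := by
      refine List.ext_getElem (hlen.1.symm.trans hlen.2) fun k hk hk' => ?_
      have hk0 : k < cbase.length := by omega
      have e1 := hi.2.2 k hk0 ⟨_, hlt k hk0⟩ rfl
      rw [h, hj.2.2 k hk0 ⟨_, hlt k hk0⟩ rfl, List.getD_eq_getElem _ _ hk',
        List.getD_eq_getElem _ _ hk] at e1
      exact e1.symm
    have t := tups_ok
    simp only [List.all_eq_true, List.mem_range, Bool.or_eq_true, Bool.not_eq_true',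
      decide_eq_false_iff_not, Bool.and_eq_true, beq_iff_eq] at t
    obtain ⟨rfl, rfl⟩ := (t i (normal_ok.2.1 ▸ hi.1) j (levi_ok.2.1 ▸ hj.1)).resolve_left
      (not_not.2 e)
    exact ⟨at_unique hi (Part.at_one normal_ok.1), at_unique hj (Part.at_one levi_ok.1)⟩

theorem levi_normalizes :
    leviPart.pairs ≤ Subgroup.normalizer (normalPart.pairs : Set Amb) := by
  classical
  haveI := card_he.1
  refine (Subgroup.closure_le _).2 ?_
  rintro _ ⟨l, hl, rfl⟩
  rw [Set.mem_ofPred_eq] at hl
  rw [SetLike.mem_coe]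
  have hmap : normalPart.pairs.map (MulAut.conj (leviPart.gen l)).toMonoidHom ≤
      normalPart.pairs := by
    rw [Part.pairs, MonoidHom.map_closure, Subgroup.closure_le]
    rintro _ ⟨_, ⟨n, hn, rfl⟩, rfl⟩
    rw [Set.mem_ofPred_eq] at hn
    have hc := conj_ok
    simp only [conjOk, List.all_eq_true, List.mem_range, decide_eq_true_eq] at hc
    obtain ⟨hi, hm, ht⟩ := hc l (levi_ok.2.2 ▸ hl) n (normal_ok.2.2 ▸ hn)
    obtain ⟨p, hp, hat⟩ := Part.reached normal_ok.1 _ hi
    rw [show normalPart.pairs = Subgroup.closure _ from rfl] at hp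
    have hw1 := ((Part.ok_spec levi_ok.1).2.1 l hl).2.1
    have hw2 := ((Part.ok_spec normal_ok.1).2.1 n hn).2.1
    have hd1 := ((Part.ok_spec levi_ok.1).2.1 l hl).1
    have hd2 := ((Part.ok_spec normal_ok.1).2.1 n hn).1
    suffices leviPart.gen l * normalPart.gen n * (leviPart.gen l)⁻¹ = p by
      simpa [this] using hp
    refine Prod.ext ?_ ?_
    · rw [Prod.fst_mul, Prod.fst_mul, Prod.fst_inv, mul_inv_eq_iff_eq_mul]
      refine Subtype.ext ?_
      rw [Matrix.SpecialLinearGroup.coe_mul, Matrix.SpecialLinearGroup.coe_mul, Part.gen, Part.gen,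
        slOf_val hd1, slOf_val hd2, hat.2.1, hm]
    · set w := (leviPart.words.getD l []).reverse ++ normalPart.words.getD n [] ++
        leviPart.words.getD l [] with hw
      have hwlt : ∀ g ∈ w, g < tab.ng := fun g hg => by
        simp only [hw, List.mem_append, List.mem_reverse] at hg
        rcases hg with (hg | hg) | hg
        exacts [hw1 g hg, hw2 g hg, hw1 g hg]
      have hact : act heGen w = (leviPart.gen l * normalPart.gen n * (leviPart.gen l)⁻¹).2 := by
        rw [hw, act_append, act_append,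
          act_reverse (ng := tab.ng) (fun g hg => heGen_sq g hg) hw1, ← mul_assoc]
        rfl
      rw [← hact]
      have h : p.2⁻¹ * act heGen w ∈ fixSub phi cbase := fun x hx => by
        obtain ⟨k, hk, hkx⟩ := List.getElem_of_mem hx
        have hd : x.val = cbase.getD k 0 := by rw [List.getD_eq_getElem _ _ hk, hkx]
        rw [map_mul, Equiv.Perm.mul_apply, map_inv, Equiv.Perm.inv_def, Equiv.symm_apply_eq]
        refine Fin.ext ?_
        rw [hat.2.2 k hk x hd, realised.act_apply hwlt, ← ht,
          List.getD_eq_getElem (List.map _ _) 0 (by simpa using hk), List.getElem_map, hkx]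
      rw [fix_cbase, Subgroup.mem_bot, inv_mul_eq_one] at h
      exact h.symm
  have heq := Subgroup.eq_of_le_of_card_ge hmap (le_of_eq
    (Nat.card_congr (Subgroup.equivMapOfInjective _ _ (MulEquiv.injective _)).toEquiv))
  rw [Subgroup.mem_normalizer_iff]
  intro h
  conv_rhs => rw [← heq, Subgroup.mem_map]
  simp

/-- The pairs of the two centralisers. -/
def link : Subgroup Amb := normalPart.pairs ⊔ leviPart.pairs

theorem link_decomp {d : Amb} (hd : d ∈ link) :
    ∃ n ∈ normalPart.pairs, ∃ l ∈ leviPart.pairs, n * l = d := by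
  have h : d ∈ (normalPart.pairs : Set Amb) * (leviPart.pairs : Set Amb) := by
    rw [← Subgroup.coe_mul_of_right_le_normalizer_left _ _ levi_normalizes]
    exact hd
  exact Set.mem_mul.1 h

theorem link_eq_one {d : Amb} (hd : d ∈ link) (h : d.1 = 1 ∨ d.2 = 1) : d = 1 := by
  obtain ⟨n, hn, l, hl, rfl⟩ := link_decomp hd
  obtain ⟨rfl, e⟩ := meet_trivial hn (inv_mem hl) (h.imp (fun e => by
    rw [Prod.fst_mul, mul_eq_one_iff_eq_inv] at e; rwa [Prod.fst_inv]) fun e => by
    rw [Prod.snd_mul, mul_eq_one_iff_eq_inv] at e; rwa [Prod.snd_inv])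
  rw [one_mul]
  exact inv_eq_one.1 e

theorem card_link : 21504 ≤ Nat.card link := by
  haveI := card_he.1
  have h1 : 128 ≤ Nat.card normalPart.pairs :=
    le_of_eq_of_le normal_ok.2.1.symm (Part.card_le_pairs normal_ok.1 normal_inj)
  have h2 : 168 ≤ Nat.card leviPart.pairs :=
    le_of_eq_of_le levi_ok.2.1.symm (Part.card_le_pairs levi_ok.1 levi_inj)
  refine le_trans ((le_of_eq (by norm_num)).trans (Nat.mul_le_mul h1 h2)) ?_
  rw [← Nat.card_prod]
  refine Nat.card_le_card_of_injective
    (fun p => (⟨p.1.1 * p.2.1, Subgroup.mul_mem _ (Subgroup.mem_sup_left p.1.2)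
      (Subgroup.mem_sup_right p.2.2)⟩ : link)) fun a b e => ?_
  have e' : a.1.1 * a.2.1 = b.1.1 * b.2.1 := congrArg Subtype.val e
  have hq : b.1.1⁻¹ * a.1.1 = b.2.1 * a.2.1⁻¹ := by
    rw [eq_mul_inv_iff_mul_eq, mul_assoc, e', inv_mul_cancel_left]
  obtain ⟨u, v⟩ := meet_trivial (mul_mem (inv_mem b.1.2) a.1.2) (mul_mem b.2.2 (inv_mem a.2.2))
    (Or.inl (congrArg Prod.fst hq))
  exact Prod.ext (Subtype.ext (inv_mul_eq_one.1 u).symm) (Subtype.ext (mul_inv_eq_one.1 v).symm)

/-- The distinguished pair. -/
def zPair : Amb := normalPart.gen 0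

theorem zPair_mem : zPair ∈ link :=
  Subgroup.mem_sup_left (Part.gen_mem (normal_ok.2.2.symm ▸ Nat.zero_lt_succ 6))

theorem zPair_fst : zPair.1.1 = transvection (0 : Fin 5) 1 1 := by
  rw [zPair, Part.gen, slOf_val ((Part.ok_spec normal_ok.1).2.1 0 (by rw [normal_ok.2.2]; omega)).1,
    transvection_ok.1]

theorem zPair_snd : zPair.2 = act heGen [3] := by rw [zPair, Part.gen, transvection_ok.2.1]

theorem link_fst_le :
    link ≤ (Subgroup.centralizer {zPair.1}).comap (MonoidHom.fst _ _) := by
  have key : ∀ (P : Part), P.ok cbase = true →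
      (∀ c ∈ P.codes, matOf c * transvection (0 : Fin 5) 1 1 = transvection 0 1 1 * matOf c) →
      P.pairs ≤ (Subgroup.centralizer {zPair.1}).comap (MonoidHom.fst _ _) := fun P hP hc => by
    refine (Subgroup.closure_le _).2 ?_
    rintro _ ⟨k, hk, rfl⟩
    rw [Set.mem_ofPred_eq] at hk
    rw [SetLike.mem_coe, Subgroup.mem_comap, Subgroup.mem_centralizer_singleton_iff,
      MonoidHom.coe_fst]
    refine Subtype.ext ?_
    rw [Matrix.SpecialLinearGroup.coe_mul, Matrix.SpecialLinearGroup.coe_mul, zPair_fst, Part.gen,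
      slOf_val ((Part.ok_spec hP).2.1 k hk).1]
    exact hc _ (by rw [List.getD_eq_getElem _ _ hk]; exact List.getElem_mem hk)
  have h := transvection_ok.2.2.1
  simp only [List.all_eq_true, decide_eq_true_eq, List.mem_append] at h
  exact sup_le (key _ normal_ok.1 fun c hc => h c (Or.inl hc))
    (key _ levi_ok.1 fun c hc => h c (Or.inr hc))

theorem link_snd_mem {d : Amb} (hd : d ∈ link) :
    d.2 ∈ Subgroup.centralizer {zPair.2} := by
  have hc : d * zPair * d⁻¹ * zPair⁻¹ = 1 := by
    refine link_eq_one (mul_mem (mul_mem (mul_mem hd zPair_mem) (inv_mem hd)) (inv_mem zPair_mem))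
      (Or.inl ?_)
    have h := Subgroup.mem_centralizer_singleton_iff.1 (link_fst_le hd)
    simp only [MonoidHom.coe_fst] at h
    simp only [Prod.fst_mul, Prod.fst_inv]
    rw [h]
    group
  rw [mul_inv_eq_one, mul_inv_eq_iff_eq_mul] at hc
  exact Subgroup.mem_centralizer_singleton_iff.2 (congrArg Prod.snd hc)

theorem zPair_snd_le : Nat.card (Subgroup.centralizer {zPair.2}) ≤ 21504 := by
  haveI := card_he.1
  rw [zPair_snd]
  refine (centralizer_le realised (fun g hg => ?_) (show 0 < tab.n by decide +kernel)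
    levels_tight.1 (stab_le.2.trans (le_of_eq (levels_card.trans levels_tight.2.symm)))
    walk_zero).trans ?_
  · rw [List.mem_singleton.1 hg]
    decide +kernel
  · rw [count_fixed, count_search]

/-- The two centralisers are isomorphic. -/
theorem exists_involution :
    ∀ s : Matrix.SpecialLinearGroup (Fin 5) (ZMod 2),
      (s : Matrix (Fin 5) (Fin 5) (ZMod 2)) = transvection 0 1 1 →
      ∃ z : Cfsg.Spor.He, orderOf z = 2 ∧ Nonempty
        (Subgroup.centralizer ({z} : Set Cfsg.Spor.He) ≃* Subgroup.centralizer ({s} : Set _)) := by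
  intro s hs
  haveI := card_he.1
  obtain rfl : s = zPair.1 := Subtype.ext (hs.trans zPair_fst.symm)
  refine ⟨zPair.2, ?_, ?_⟩
  · refine orderOf_eq_prime ?_ fun e => ?_
    · rw [zPair_snd, act_cons, act_nil, one_mul, sq, heGen_sq 3 (by omega)]
    · have h1 := congrArg (fun d : Amb => d.1.1) (link_eq_one zPair_mem (Or.inr e))
      exact transvection_ok.2.2.2 (zPair_fst.symm.trans h1)
  · let f1 : link →* Subgroup.centralizer {zPair.1} :=
      ((MonoidHom.fst _ _).comp link.subtype).codRestrict _ fun d => link_fst_le d.2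
    let f2 : link →* Subgroup.centralizer {zPair.2} :=
      ((MonoidHom.snd _ _).comp link.subtype).codRestrict _ fun d => link_snd_mem d.2
    have i1 : Function.Injective f1 := (injective_iff_map_eq_one f1).2 fun d hd =>
      Subtype.ext (link_eq_one d.2 (Or.inl (congrArg Subtype.val hd)))
    have i2 : Function.Injective f2 := (injective_iff_map_eq_one f2).2 fun d hd =>
      Subtype.ext (link_eq_one d.2 (Or.inr (congrArg Subtype.val hd)))
    have b1 : Function.Bijective f1 := (Nat.bijective_iff_injective_and_card f1).2 ⟨i1,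
      le_antisymm (Nat.card_le_card_of_injective _ i1)
        ((le_of_eq (CfsgLib.Golay.SL52.card_centralizer _ hs)).trans card_link)⟩
    have b2 : Function.Bijective f2 := (Nat.bijective_iff_injective_and_card f2).2 ⟨i2,
      le_antisymm (Nat.card_le_card_of_injective _ i2) (zPair_snd_le.trans card_link)⟩
    exact ⟨(MulEquiv.ofBijective f2 b2).symm.trans (MulEquiv.ofBijective f1 b1)⟩

end CfsgLib.He.InvolCent
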